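import Groth.Agent.FreeAct18.Split
import Groth.Agent.GrpSchLib.Action
import Groth.Agent.MultTransp18.InfFixed
import Groth.Agent.FpqcDescLib.Closed

/-!
# Free actions of groups of multiplicative type on affine schemes: closed graph and closed orbits
-/

universe u

open CategoryTheory CategoryTheory.Limits MonoidalCategory CartesianMonoidalCategory MonObj AlgebraicGeometry
open scoped TensorProduct
open Groth.Agent.GrpSchLib.AffineHopf Groth.Agent.DSPtsLib Groth.Agent.MultTransp18

set_option backward.isDefEq.respectTransparency false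
set_option linter.style.haveILetI false
set_option synthInstance.maxHeartbeats 400000
set_option maxHeartbeats 1000000

namespace Groth.Agent.FreeAct18

/-- The free action condition. -/
def Free {S : Scheme.{u}} {G X : Over S} [GrpObj G] (act : G ⊗ X ⟶ X) : Prop :=
  ∀ (Y : Over S) (g : Y ⟶ G) (x : Y ⟶ X), lift g x ≫ act = x → g = 1

/-- A point of a product of spectra. -/
theorem pair_left {k : Type u} [CommRing k] {P Q C : Type u} [CommRing P] [Algebra k P] [CommRing Q] [Algebra k Q]
    [CommRing C] [Algebra k C] (p : P →ₐ[k] C) (q : Q →ₐ[k] C) :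
    (lift (spMap p) (spMap q) : sp k C ⟶ sp k P ⊗ sp k Q).left =
      Spec.map (CommRingCat.ofHom (Algebra.TensorProduct.lift p q fun _ _ => Commute.all _ _).toRingHom) ≫
        (pullbackSpecIso k P Q).inv := by
  have h1 : (lift (spMap p) (spMap q) : sp k C ⟶ sp k P ⊗ sp k Q).left ≫
      pullback.fst (Spec.map (CommRingCat.ofHom (algebraMap k P))) (Spec.map (CommRingCat.ofHom (algebraMap k Q))) =
        Spec.map (CommRingCat.ofHom p.toRingHom) :=
    congrArg CommaMorphism.left (lift_fst (spMap p) (spMap q))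
  have h2 : (lift (spMap p) (spMap q) : sp k C ⟶ sp k P ⊗ sp k Q).left ≫
      pullback.snd (Spec.map (CommRingCat.ofHom (algebraMap k P))) (Spec.map (CommRingCat.ofHom (algebraMap k Q))) =
        Spec.map (CommRingCat.ofHom q.toRingHom) :=
    congrArg CommaMorphism.left (lift_snd (spMap p) (spMap q))
  apply pullback.hom_ext
  · refine h1.trans (Eq.trans ?_ ((congrArg (Spec.map _ ≫ ·) (pullbackSpecIso_inv_fst k P Q)).symm.trans
      (Category.assoc _ _ _).symm))
    show Spec.map _ = Spec.map _ ≫ Spec.map _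
    rw [← Spec.map_comp]
    congr 1
    refine CommRingCat.hom_ext (RingHom.ext fun x => ?_)
    show p x = Algebra.TensorProduct.lift p q (fun _ _ => Commute.all _ _) (x ⊗ₜ 1)
    rw [Algebra.TensorProduct.lift_tmul, map_one, _root_.mul_one]
  · refine h2.trans (Eq.trans ?_ ((congrArg (Spec.map _ ≫ ·) (pullbackSpecIso_inv_snd k P Q)).symm.trans
      (Category.assoc _ _ _).symm))
    show Spec.map _ = Spec.map _ ≫ Spec.map _
    rw [← Spec.map_comp]
    congr 1
    refine CommRingCat.hom_ext (RingHom.ext fun x => ?_)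
    show q x = Algebra.TensorProduct.lift p q (fun _ _ => Commute.all _ _) (1 ⊗ₜ x)
    rw [Algebra.TensorProduct.lift_tmul, map_one, _root_.one_mul]

/-- The inverse of the adjunction bijection. -/
noncomputable def tInv {S U : Scheme.{u}} (b : U ⟶ S) {H : Over S} {Y : Over U} (a : (Over.map b).obj Y ⟶ H) :
    Y ⟶ Red.bc b H :=
  (Equiv.ofBijective _ (theta_bijective (g := b) (Y := Y) (H := H))).symm a

theorem theta_tInv {S U : Scheme.{u}} (b : U ⟶ S) {H : Over S} {Y : Over U} (a : (Over.map b).obj Y ⟶ H) :
    theta b (tInv b a) = a :=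
  (Equiv.ofBijective _ (theta_bijective (g := b) (Y := Y) (H := H))).apply_symm_apply a

/-- The universal pair identifies the group algebra over the algebra with the tensor product. -/
theorem bijective_pairMap {k : Type u} [CommRing k] (N : Type u) [CommGroup N] (A : Type u) [CommRing A]
    [Algebra k A] : Function.Bijective (Algebra.TensorProduct.lift (uG (k := k) (A := A) (N := N))
      (uX (k := k) (A := A) (N := N)) fun _ _ => Commute.all _ _) := by
  let e := Algebra.TensorProduct.lift (uG (k := k) (A := A) (N := N)) (uX (k := k) (A := A) (N := N))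
    fun _ _ => Commute.all _ _
  let v : MonoidAlgebra A N →ₐ[k] MonoidAlgebra k N ⊗[k] A :=
    evPair Algebra.TensorProduct.includeLeft Algebra.TensorProduct.includeRight
  have h1 : ∀ z, v (e z) = z := fun z => by
    induction z using TensorProduct.induction_on with
    | zero => rw [map_zero, map_zero]
    | add p q hp hq => rw [map_add, map_add, hp, hq]
    | tmul b a =>
      rw [Algebra.TensorProduct.lift_tmul, map_mul,
        show v (uG b) = Algebra.TensorProduct.includeLeft b from AlgHom.congr_fun (evPair_uG _ _) b,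
        show v (uX a) = Algebra.TensorProduct.includeRight a from AlgHom.congr_fun (evPair_uX _ _) a]
      simp
  have h2 : ∀ z, e (v z) = z := fun z => by
    induction z using MonoidAlgebra.induction_linear with
    | zero => rw [map_zero, map_zero]
    | add p q hp hq => rw [map_add, map_add, hp, hq]
    | single m a =>
      rw [evPair_single, map_mul]
      show e ((1 : MonoidAlgebra k N) ⊗ₜ a) * e (MonoidAlgebra.single m (1 : k) ⊗ₜ (1 : A)) = _
      rw [Algebra.TensorProduct.lift_tmul, Algebra.TensorProduct.lift_tmul, map_one, map_one, uG_single, uX_apply,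
        _root_.one_mul, _root_.mul_one, MonoidAlgebra.single_mul_single, _root_.one_mul, _root_.mul_one]
  exact ⟨Function.LeftInverse.injective (g := v) h1, Function.RightInverse.surjective (g := v) h2⟩

theorem isIso_pair {k : Type u} [CommRing k] (N : Type u) [CommGroup N] (A : Type u) [CommRing A]
    [Algebra k A] : IsIso (lift (spMap (uG (k := k) (A := A) (N := N))) (spMap (uX (k := k) (A := A) (N := N))) :
      sp k (MonoidAlgebra A N) ⟶ sp k (MonoidAlgebra k N) ⊗ sp k A).left := by
  rw [pair_left]
  haveI : IsIso (CommRingCat.ofHom (Algebra.TensorProduct.lift (uG (k := k) (A := A) (N := N))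
      (uX (k := k) (A := A) (N := N)) fun _ _ => Commute.all _ _).toRingHom) :=
    (ConcreteCategory.isIso_iff_bijective _).mpr (bijective_pairMap N A)
  infer_instance

theorem isClosedImmersion_graph_split {k : Type u} [CommRing k] {N : Type u} [CommGroup N] {A : Type u} [CommRing A]
    [Algebra k A] (act : sp k (MonoidAlgebra k N) ⊗ sp k A ⟶ sp k A)
    (hone : ∀ (T : Over (Spec (CommRingCat.of k))) (x : T ⟶ sp k A), lift 1 x ≫ act = x)
    (hmul : ∀ (T : Over (Spec (CommRingCat.of k))) (g h : T ⟶ sp k (MonoidAlgebra k N)) (x : T ⟶ sp k A),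
      lift g (lift h x ≫ act) ≫ act = lift (g * h) x ≫ act)
    (hfree : Free act) : IsClosedImmersion (lift act (snd (sp k (MonoidAlgebra k N)) (sp k A))).left := by
  have e' : (lift (spMap (uG (k := k) (A := A) (N := N))) (spMap (uX (k := k) (A := A) (N := N)))) ≫
      lift act (snd (sp k (MonoidAlgebra k N)) (sp k A)) =
        lift (spMap (coact act)) (spMap (uX (k := k) (A := A) (N := N))) := by
    rw [comp_lift, coact_spec, lift_snd]
  have hc : IsClosedImmersion (lift (spMap (coact act)) (spMap (uX (k := k) (A := A) (N := N))) :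
      sp k (MonoidAlgebra A N) ⟶ sp k A ⊗ sp k A).left := by
    rw [pair_left]
    haveI : IsClosedImmersion (Spec.map (CommRingCat.ofHom (Algebra.TensorProduct.lift (coact act)
        (uX (k := k) (A := A) (N := N)) fun _ _ => Commute.all _ _).toRingHom)) :=
      IsClosedImmersion.spec_of_surjective _ (graph_surjective act hone hmul hfree)
    infer_instance
  rw [← e', Over.comp_left] at hc
  haveI := isIso_pair (k := k) N A
  exact (MorphismProperty.cancel_left_of_respectsIso @IsClosedImmersion _ _).mp hc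

/-- The split case over an affine base. -/
theorem isClosedImmersion_graph_affine {k : Type u} [CommRing k] {G X : Over (Spec (CommRingCat.of k))} [GrpObj G]
    [IsAffine X.left] (M : Type) [AddCommGroup M] (eM : Grp.mk G ≅ Grp.mk (Red.DS (Spec (CommRingCat.of k)) M))
    (act : G ⊗ X ⟶ X) (hone : ∀ (T : Over _) (x : T ⟶ X), lift 1 x ≫ act = x)
    (hmul : ∀ (T : Over _) (g h : T ⟶ G) (x : T ⟶ X), lift g (lift h x ≫ act) ≫ act = lift (g * h) x ≫ act)
    (hfree : Free act) : IsClosedImmersion (lift act (snd G X)).left := by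
  let φ : CommRingCat.of k ⟶ Γ(X.left, ⊤) := Spec.preimage (X.left.isoSpec.inv ≫ X.hom)
  letI : Algebra k Γ(X.left, ⊤) := φ.hom.toAlgebra
  let A : Type u := Γ(X.left, ⊤)
  have hφ : Spec.map φ = X.left.isoSpec.inv ≫ X.hom := Spec.map_preimage _
  let eX : sp k A ≅ X := Over.isoMk X.left.isoSpec.symm hφ.symm
  obtain ⟨e1⟩ := nonempty_DS_iso k M
  let N : Type u := ULift.{u} (Multiplicative M)
  let eG : Grp.mk (sp k (MonoidAlgebra k N)) ≅ Grp.mk G :=
    spIso (uliftBialgEquiv k (Multiplicative M)) ≪≫ e1 ≪≫ eM.symm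
  let g₁ := eG.hom.hom.hom
  let g₂ := eG.inv.hom.hom
  haveI : IsMonHom g₁ := eG.hom.hom.isMonHom_hom
  have g12 : g₁ ≫ g₂ = 𝟙 _ := congrArg (fun m => m.hom.hom) eG.hom_inv_id
  have g21 : g₂ ≫ g₁ = 𝟙 _ := congrArg (fun m => m.hom.hom) eG.inv_hom_id
  let act' : sp k (MonoidAlgebra k N) ⊗ sp k A ⟶ sp k A := (g₁ ⊗ₘ eX.hom) ≫ act ≫ eX.inv
  have ha : ∀ {T : Over (Spec (CommRingCat.of k))} (g : T ⟶ sp k (MonoidAlgebra k N)) (x : T ⟶ sp k A),
      lift g x ≫ act' = lift (g ≫ g₁) (x ≫ eX.hom) ≫ act ≫ eX.inv := fun g x => by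
    simp [act']
  have hcl := isClosedImmersion_graph_split act'
    (fun T x => by rw [ha, MonObj.one_comp, reassoc_of% hone]; simp)
    (fun T g h x => by
      rw [ha, ha, ha, MonObj.mul_comp, ← reassoc_of% (hmul T (g ≫ g₁) (h ≫ g₁) (x ≫ eX.hom))]
      simp)
    (fun T g x hgx => by
      rw [ha] at hgx
      have := hfree T (g ≫ g₁) (x ≫ eX.hom) (by
        have := congrArg (fun m => m ≫ eX.hom) hgx
        simpa using this)
      have e := congrArg (fun m => m ≫ g₂) this
      haveI : IsMonHom g₂ := eG.inv.hom.isMonHom_hom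
      simpa [g12] using e)
  have e : lift act (snd G X) = (g₂ ⊗ₘ eX.inv) ≫ lift act' (snd _ _) ≫ (eX.hom ⊗ₘ eX.hom) := by
    apply CartesianMonoidalCategory.hom_ext
    · simp only [Category.assoc, tensorHom_fst, lift_fst, lift_fst_assoc, act']
      rw [tensorHom_comp_tensorHom_assoc]
      simp [g21]
    · simp
  haveI : IsIso g₂ := ⟨g₁, g21, g12⟩
  haveI : IsIso (g₂ ⊗ₘ eX.inv).left := inferInstanceAs (IsIso ((Over.forget _).map (g₂ ⊗ₘ eX.inv)))
  haveI : IsIso (eX.hom ⊗ₘ eX.hom).left := inferInstanceAs (IsIso ((Over.forget _).map (eX.hom ⊗ₘ eX.hom)))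
  rw [e, Over.comp_left, Over.comp_left]
  infer_instance

/-- The graph square of a map over the base is cartesian. -/
theorem isPullback_bc_map {S T : Scheme.{u}} (g : T ⟶ S) {P Q : Over S} (gam : P ⟶ Q) :
    IsPullback (pullback.fst P.hom g) ((Over.pullback g).map gam).left gam.left (pullback.fst Q.hom g) :=
  IsPullback.of_bot (v₂₁ := pullback.snd Q.hom g) (v₂₂ := Q.hom) (h₃₁ := g)
    (by simpa using IsPullback.of_hasPullback P.hom g) (by simp) (IsPullback.of_hasPullback Q.hom g)

/-- Over a piece of the cover. -/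
theorem isClosedImmersion_graph_piece {S : Scheme.{u}} {G X : Over S} [GrpObj G] (hX : IsAffineHom X.hom)
    (a : AlgGrp.Action G X) (hfree : Free a.act) {k : Type u} [CommRing k] (b : Spec (CommRingCat.of k) ⟶ S)
    (M : Type) [AddCommGroup M] (eM : Grp.mk (Red.bc b G) ≅ Grp.mk (Red.DS (Spec (CommRingCat.of k)) M)) :
    IsClosedImmersion ((Over.pullback b).map (lift a.act (snd G X))).left := by
  let GR := Red.bc b G
  let XR := Red.bc b X
  haveI : IsAffineHom (pullback.snd X.hom b) := MorphismProperty.pullback_snd _ _ hX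
  haveI : IsAffine XR.left := isAffine_of_isAffineHom (pullback.snd X.hom b)
  let actR : GR ⊗ XR ⟶ XR := tInv b (lift (theta b (fst GR XR)) (theta b (snd GR XR)) ≫ a.act)
  have hactR : ∀ {T : Over (Spec (CommRingCat.of k))} (h : T ⟶ GR) (x : T ⟶ XR),
      theta b (lift h x ≫ actR) = lift (theta b h) (theta b x) ≫ a.act := fun h x => by
    rw [theta_comp, theta_tInv, ← Category.assoc, comp_lift, ← theta_comp, ← theta_comp, lift_fst, lift_snd]
  have hone1 : ∀ {T : Over (Spec (CommRingCat.of k))}, theta b (1 : T ⟶ GR) = 1 := fun {T} => by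
    have := theta_mul b (1 : T ⟶ GR) 1
    rw [_root_.one_mul] at this
    exact mul_eq_left.mp this.symm
  have hcl := isClosedImmersion_graph_affine M eM actR
    (fun T x => (theta_bijective b).injective (by rw [hactR, hone1, GrpSchLib.act_one]))
    (fun T g h x => (theta_bijective b).injective (by rw [hactR, hactR, hactR, theta_mul, GrpSchLib.act_mul]))
    (fun T g x hgx => (theta_bijective b).injective (by
      rw [hone1]
      exact hfree _ _ (theta b x) (by rw [← hactR, hgx])))
  let eP : ∀ (P Q : Over S), Red.bc b (P ⊗ Q) ⟶ Red.bc b P ⊗ Red.bc b Q := fun P Q =>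
    lift ((Over.pullback b).map (fst P Q)) ((Over.pullback b).map (snd P Q))
  let eI : ∀ (P Q : Over S), Red.bc b P ⊗ Red.bc b Q ⟶ Red.bc b (P ⊗ Q) := fun P Q =>
    tInv b (lift (theta b (fst _ _)) (theta b (snd _ _)))
  have hIP : ∀ P Q, eI P Q ≫ eP P Q = 𝟙 _ := fun P Q => by
    apply CartesianMonoidalCategory.hom_ext
    · rw [Category.assoc, lift_fst, Category.id_comp]
      exact (theta_bijective b).injective (by rw [theta_comp_map, theta_tInv, lift_fst])
    · rw [Category.assoc, lift_snd, Category.id_comp]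
      exact (theta_bijective b).injective (by rw [theta_comp_map, theta_tInv, lift_snd])
  have hPI : ∀ P Q, eP P Q ≫ eI P Q = 𝟙 _ := fun P Q => (theta_bijective b).injective (by
    rw [theta_comp, theta_tInv, comp_lift, ← theta_comp, ← theta_comp, lift_fst, lift_snd]
    apply CartesianMonoidalCategory.hom_ext
    · rw [lift_fst, ← theta_comp_map, Category.id_comp]
    · rw [lift_snd, ← theta_comp_map, Category.id_comp])
  have e : (Over.pullback b).map (lift a.act (snd G X)) = eP G X ≫ lift actR (snd GR XR) ≫ eI X X := by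
    have key : ∀ z : Red.bc b (G ⊗ X) ⟶ Red.bc b (X ⊗ X),
        z ≫ eP X X = eP G X ≫ lift actR (snd GR XR) → z = eP G X ≫ lift actR (snd GR XR) ≫ eI X X := fun z hz => by
      rw [← reassoc_of% hz, hPI, Category.comp_id]
    refine key _ ?_
    apply CartesianMonoidalCategory.hom_ext
    · rw [Category.assoc, Category.assoc]
      simp only [eP]
      rw [lift_fst, show lift actR (snd GR XR) ≫ fst (Red.bc b X) (Red.bc b X) = actR from lift_fst actR (snd GR XR)]
      refine (theta_bijective b).injective ?_
      rw [hactR, ← Functor.map_comp, lift_fst]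
      rw [← Category.id_comp ((Over.pullback b).map a.act), ← Category.id_comp ((Over.pullback b).map (fst G X)),
        ← Category.id_comp ((Over.pullback b).map (snd G X)), theta_comp_map, theta_comp_map, theta_comp_map,
        ← comp_lift, lift_fst_snd, Category.comp_id]
    · rw [Category.assoc, Category.assoc]
      simp only [eP]
      rw [lift_snd, show lift actR (snd GR XR) ≫ snd (Red.bc b X) (Red.bc b X) = snd GR XR from lift_snd actR (snd GR XR),
        ← Functor.map_comp, lift_snd]
      exact (lift_snd _ _).symm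
  haveI : IsIso (eP G X) := ⟨eI G X, hPI _ _, hIP _ _⟩
  haveI : IsIso (eI X X) := ⟨eP X X, hIP _ _, hPI _ _⟩
  haveI : IsIso (eP G X).left := inferInstanceAs (IsIso ((Over.forget _).map (eP G X)))
  haveI : IsIso (eI X X).left := inferInstanceAs (IsIso ((Over.forget _).map (eI X X)))
  rw [e, Over.comp_left, Over.comp_left]
  infer_instance

theorem isClosedImmersion_graph {S : Scheme.{u}} {G X : Over S} [GrpObj G] (hG : LocDiag G)
    (hX : IsAffineHom X.hom) (a : AlgGrp.Action G X) (hfree : Free a.act) :
    IsClosedImmersion (lift a.act (snd G X)).left := by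
  obtain ⟨S', f, hflat, hsurj, hqc, hloc⟩ := hG
  choose O hO M hM hiso using hloc
  have hcov : FpqcDescLib.Covers f :=
    FpqcDescLib.covers_of_hcov f ⟨S', f, 𝟙 _, Category.id_comp _, hsurj, hflat, hqc⟩
  let gam := lift a.act (snd G X)
  let Q := (X ⊗ X).hom
  have hcovQ : FpqcDescLib.Covers (pullback.fst Q f) :=
    hcov.pullback Q _ _ (IsPullback.of_hasPullback Q f)
  refine hcovQ.descends @IsClosedImmersion gam.left ((Over.pullback f).map gam).left _
    (isPullback_bc_map f gam).flip ?_
  refine IsZariskiLocalAtTarget.of_forall_exists_morphismRestrict fun z => ?_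
  let s' := (pullback.snd Q f).base z
  obtain ⟨U, hU, hsU, hUO⟩ := exists_isAffineOpen_mem_and_subset (hO s')
  let k : Type u := Γ(S', U)
  let t : Spec (CommRingCat.of k) ⟶ (O s' : Scheme.{u}) :=
    IsOpenImmersion.lift (O s').ι hU.fromSpec (by
      rw [Scheme.Opens.range_ι]; exact hU.range_fromSpec.trans_subset hUO)
  let b : Spec (CommRingCat.of k) ⟶ S := hU.fromSpec ≫ f
  have hb : b = t ≫ (O s').ι ≫ f := by rw [IsOpenImmersion.lift_fac_assoc]
  obtain ⟨i⟩ := hiso s'
  obtain ⟨e1⟩ := GrpSchLib.MultTypeBC.bc_congr hb G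
  obtain ⟨e2⟩ := GrpSchLib.MultTypeBC.bc_bc t ((O s').ι ≫ f) G
  obtain ⟨e3⟩ := GrpSchLib.MultTypeBC.bc_iso t i
  obtain ⟨e4⟩ := GrpSchLib.MultTypeBC.bc_DS t (M s')
  have hci : IsClosedImmersion ((Over.pullback b).map gam).left :=
    isClosedImmersion_graph_piece hX a hfree b (M s') (e1 ≪≫ e2.symm ≪≫ e3 ≪≫ e4)
  let j : pullback Q b ⟶ pullback Q f := pullback.map Q b Q f (𝟙 _) hU.fromSpec (𝟙 _) (by simp) (by simp [b])
  let j' : pullback (G ⊗ X).hom b ⟶ pullback (G ⊗ X).hom f :=
    pullback.map (G ⊗ X).hom b (G ⊗ X).hom f (𝟙 _) hU.fromSpec (𝟙 _) (by simp) (by simp [b])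
  have sqU : IsPullback (pullback.snd Q b) j hU.fromSpec (pullback.snd Q f) :=
    IsPullback.of_bot (v₂₁ := pullback.fst Q f) (v₂₂ := f) (h₃₁ := Q)
      (by simpa [j] using (IsPullback.of_hasPullback Q b).flip) (by simp [j]) (IsPullback.of_hasPullback Q f).flip
  haveI : IsOpenImmersion j := MorphismProperty.of_isPullback (P := @IsOpenImmersion) sqU inferInstance
  have hz : z ∈ Scheme.Hom.opensRange j := by
    have hz' : (pullback.snd Q f).base z ∈ Set.range hU.fromSpec.base := by
      rw [hU.range_fromSpec]; exact hsU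
    obtain ⟨w, hw⟩ := hz'
    obtain ⟨y, -, hy⟩ := Scheme.exists_preimage_of_isPullback sqU w z hw
    exact ⟨y, hy⟩
  refine ⟨Scheme.Hom.opensRange j, hz, ?_⟩
  refine (MorphismProperty.arrow_mk_iso_iff @IsClosedImmersion
    (morphismRestrictOpensRange ((Over.pullback f).map gam).left j)).mpr ?_
  have w : j' ≫ ((Over.pullback f).map gam).left = ((Over.pullback b).map gam).left ≫ j := by
    have hj : j ≫ pullback.fst Q f = pullback.fst Q b := (pullback.lift_fst _ _ _).trans (Category.comp_id _)
    have hj' : j' ≫ pullback.fst (G ⊗ X).hom f = pullback.fst (G ⊗ X).hom b :=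
      (pullback.lift_fst _ _ _).trans (Category.comp_id _)
    have hs : j ≫ pullback.snd Q f = pullback.snd Q b ≫ hU.fromSpec := pullback.lift_snd _ _ _
    have hs' : j' ≫ pullback.snd (G ⊗ X).hom f = pullback.snd (G ⊗ X).hom b ≫ hU.fromSpec := pullback.lift_snd _ _ _
    apply pullback.hom_ext
    · rw [Category.assoc, ← (isPullback_bc_map f gam).w, ← Category.assoc, hj', (isPullback_bc_map b gam).w,
        Category.assoc, hj]
    · refine (Category.assoc _ _ _).trans (Eq.trans ?_ (Category.assoc _ _ _).symm)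
      erw [hs]
      rw [show ((Over.pullback f).map gam).left ≫ pullback.snd Q f = pullback.snd (G ⊗ X).hom f from
        pullback.lift_snd _ _ _, hs', ← Category.assoc,
        show ((Over.pullback b).map gam).left ≫ pullback.snd Q b = pullback.snd (G ⊗ X).hom b from
        pullback.lift_snd _ _ _]
  have big : IsPullback (pullback.fst (G ⊗ X).hom b) ((Over.pullback b).map gam).left gam.left (pullback.fst Q b) :=
    isPullback_bc_map b gam
  have H1 : IsPullback j' ((Over.pullback b).map gam).left ((Over.pullback f).map gam).left j := by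
    refine IsPullback.of_right (h₁₂ := pullback.fst (G ⊗ X).hom f) (h₂₂ := pullback.fst Q f) (v₁₃ := gam.left) ?_ w
      (isPullback_bc_map f gam)
    simpa [j, j'] using big
  rw [← MorphismProperty.arrow_mk_iso_iff @IsClosedImmersion
    (Arrow.isoMk (f := Arrow.mk ((Over.pullback b).map gam).left)
      (g := Arrow.mk (pullback.snd ((Over.pullback f).map gam).left j)) H1.isoPullback (Iso.refl _) (by simp))]
  exact hci

/-- The orbit map is a base change of the graph. -/
theorem isPullback_orbit {S : Scheme.{u}} {G X : Over S} [GrpObj G] (a : AlgGrp.Action G X) (σ : 𝟙_ (Over S) ⟶ X) :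
    IsPullback (lift (𝟙 G) (toUnit G ≫ σ)) (a.orbitMap σ) (lift a.act (snd G X)) (lift (𝟙 X) (toUnit X ≫ σ)) := by
  refine IsPullback.of_isLimit' ⟨by simp [AlgGrp.Action.orbitMap]⟩ (Limits.PullbackCone.IsLimit.mk _
    (fun s => s.fst ≫ fst G X) (fun s => ?_) (fun s => ?_) fun s m hm _ => ?_)
  all_goals
    try
      have h1 := congrArg (fun z => z ≫ fst X X) s.condition
      have h2 := congrArg (fun z => z ≫ snd X X) s.condition
      simp at h1 h2
  · apply CartesianMonoidalCategory.hom_ext
    · simp
    · simp [h2]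
  · have e : lift (s.fst ≫ fst G X) (toUnit s.pt ≫ σ) = s.fst := by
      apply CartesianMonoidalCategory.hom_ext
      · simp
      · simp [h2]
    rw [← h1]
    conv_rhs => rw [← e]
    simp only [AlgGrp.Action.orbitMap, ← Category.assoc, comp_lift, Category.comp_id]
    simp
  · rw [← hm]; simp

theorem isClosedImmersion_orbit {S : Scheme.{u}} {G X : Over S} [GrpObj G] (hG : LocDiag G)
    (hX : IsAffineHom X.hom) (a : AlgGrp.Action G X) (hfree : Free a.act) (σ : 𝟙_ (Over S) ⟶ X) :
    IsClosedImmersion (a.orbitMap σ).left :=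
  MorphismProperty.of_isPullback (P := @IsClosedImmersion) ((isPullback_orbit a σ).map (Over.forget S))
    (isClosedImmersion_graph hG hX a hfree)

end Groth.Agent.FreeAct18
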