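import Groth.Agent.GrpSchLib.AffineHopf
import Mathlib.RingTheory.Ideal.Quotient.Operations
import Mathlib.AlgebraicGeometry.Morphisms.ClosedImmersion

/-!
# Free actions of diagonalisable groups on affine schemes: the graph is a closed immersion

An action of `D(N)` on `Spec A` is a grading of `A` by `N`.  It is free only if every homogeneous part generates the
unit ideal: at a point where this fails, the projection to the degrees which occur invertibly gives a point with a
non-trivial stabiliser.
-/

universe u

open CategoryTheory CategoryTheory.Limits MonoidalCategory CartesianMonoidalCategory MonObj AlgebraicGeometry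
open scoped TensorProduct
open Groth.Agent.GrpSchLib.AffineHopf

set_option backward.isDefEq.respectTransparency false
set_option linter.style.haveILetI false
set_option synthInstance.maxHeartbeats 400000
set_option maxHeartbeats 1000000

namespace Groth.Agent.FreeAct18

variable {k : Type u} [CommRing k]

/-- Maps between spectra of algebras come from algebra maps. -/
theorem exists_spMap_eq {A B : Type u} [CommRing A] [CommRing B] [Algebra k A] [Algebra k B] (g : sp k A ⟶ sp k B) :
    ∃ φ : B →ₐ[k] A, g = spMap φ := by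
  obtain ⟨f, hf⟩ : ∃ f : CommRingCat.of B ⟶ CommRingCat.of A, Spec.map f = g.left := ⟨Spec.preimage g.left, Spec.map_preimage _⟩
  have hw : CommRingCat.ofHom (algebraMap k B) ≫ f = CommRingCat.ofHom (algebraMap k A) := by
    apply Spec.map_injective
    rw [Spec.map_comp, hf]
    exact Over.w g
  exact ⟨{ f.hom with commutes' := fun r => RingHom.congr_fun (congrArg CommRingCat.Hom.hom hw) r },
    Over.OverMorphism.ext hf.symm⟩

theorem spMap_inj {A B : Type u} [CommRing A] [CommRing B] [Algebra k A] [Algebra k B] {f g : B →ₐ[k] A}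
    (h : spMap f = spMap g) : f = g :=
  AlgHom.coe_ringHom_injective (congrArg CommRingCat.Hom.hom (Spec.map_injective (congrArg CommaMorphism.left h)))

variable {N : Type u} [CommGroup N] {A : Type u} [CommRing A] [Algebra k A]

/-- The universal point of the group over the algebra. -/
noncomputable def uG : MonoidAlgebra k N →ₐ[k] MonoidAlgebra A N :=
  MonoidAlgebra.lift k (MonoidAlgebra A N) N (MonoidAlgebra.of A N)

@[simp] theorem uG_single (m : N) : uG (A := A) (MonoidAlgebra.single m (1 : k)) = MonoidAlgebra.single m 1 := by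
  simp [uG]

/-- The universal point of the scheme. -/
noncomputable def uX : A →ₐ[k] MonoidAlgebra A N := MonoidAlgebra.singleOneAlgHom

theorem uX_apply (a : A) : uX (k := k) (N := N) a = MonoidAlgebra.single 1 a := rfl

/-- Evaluation at a pair of points. -/
noncomputable def evPair {C : Type u} [CommRing C] [Algebra k C] (φ : MonoidAlgebra k N →ₐ[k] C) (x : A →ₐ[k] C) :
    MonoidAlgebra A N →ₐ[k] C :=
  MonoidAlgebra.liftNCAlgHom x ((φ : MonoidAlgebra k N →* C).comp (MonoidAlgebra.of k N)) fun _ _ => Commute.all _ _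

theorem evPair_single {C : Type u} [CommRing C] [Algebra k C] (φ : MonoidAlgebra k N →ₐ[k] C) (x : A →ₐ[k] C)
    (m : N) (a : A) : evPair φ x (MonoidAlgebra.single m a) = x a * φ (MonoidAlgebra.single m 1) :=
  MonoidAlgebra.liftNC_single _ _ _ _

theorem evPair_uX {C : Type u} [CommRing C] [Algebra k C] (φ : MonoidAlgebra k N →ₐ[k] C) (x : A →ₐ[k] C) :
    (evPair φ x).comp uX = x := AlgHom.ext fun a => by
  rw [AlgHom.comp_apply, uX_apply, evPair_single, ← MonoidAlgebra.one_def, map_one, _root_.mul_one]

theorem evPair_uG {C : Type u} [CommRing C] [Algebra k C] (φ : MonoidAlgebra k N →ₐ[k] C) (x : A →ₐ[k] C) :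
    (evPair φ x).comp uG = φ :=
  MonoidAlgebra.algHom_ext (fun m => by rw [AlgHom.comp_apply, uG_single, evPair_single, map_one, _root_.one_mul])
    (by ext)

variable (act : sp k (MonoidAlgebra k N) ⊗ sp k A ⟶ sp k A)

theorem exists_coact : ∃ φ : A →ₐ[k] MonoidAlgebra A N,
    lift (spMap (uG (k := k) (A := A) (N := N))) (spMap (uX (k := k) (A := A) (N := N))) ≫ act = spMap φ :=
  exists_spMap_eq _

/-- The coaction. -/
noncomputable def coact : A →ₐ[k] MonoidAlgebra A N :=
  (exists_coact act).choose

theorem coact_spec : lift (spMap (uG (k := k) (A := A) (N := N))) (spMap (uX (k := k) (A := A) (N := N))) ≫ act =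
    spMap (coact act) :=
  (exists_coact act).choose_spec

theorem act_eq {C : Type u} [CommRing C] [Algebra k C] (φ : MonoidAlgebra k N →ₐ[k] C) (x : A →ₐ[k] C) :
    lift (spMap φ) (spMap x) ≫ act = spMap ((evPair φ x).comp (coact act)) := by
  rw [← spMap_comp, ← coact_spec, ← Category.assoc, comp_lift, spMap_comp, spMap_comp, evPair_uG, evPair_uX]

variable (hone : ∀ (T : Over (Spec (CommRingCat.of k))) (x : T ⟶ sp k A), lift 1 x ≫ act = x)
  (hmul : ∀ (T : Over (Spec (CommRingCat.of k))) (g h : T ⟶ sp k (MonoidAlgebra k N)) (x : T ⟶ sp k A),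
    lift g (lift h x ≫ act) ≫ act = lift (g * h) x ≫ act)
  (hfree : ∀ (T : Over (Spec (CommRingCat.of k))) (g : T ⟶ sp k (MonoidAlgebra k N)) (x : T ⟶ sp k A),
    lift g x ≫ act = x → g = 1)

/-- The homogeneous component. -/
noncomputable def comp (m : N) (a : A) : A := (coact act a).coeff m

theorem one_point {C : Type u} [CommRing C] [Algebra k C] :
    (1 : sp k C ⟶ sp k (MonoidAlgebra k N)) = spMap ((1 : WithConv (MonoidAlgebra k N →ₐ[k] C)).ofConv) :=
  (map_one (Spec.mapMulEquiv (R := k) (S := MonoidAlgebra k N) (T := C))).symm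

theorem one_single {C : Type u} [CommRing C] [Algebra k C] (m : N) :
    (1 : WithConv (MonoidAlgebra k N →ₐ[k] C)).ofConv (MonoidAlgebra.single m 1) = 1 := by
  simp [AlgHom.convOne_apply]

theorem mul_single {C : Type u} [CommRing C] [Algebra k C] (φ ψ : MonoidAlgebra k N →ₐ[k] C) (m : N) :
    (WithConv.toConv φ * WithConv.toConv ψ).ofConv (MonoidAlgebra.single m 1) =
      φ (MonoidAlgebra.single m 1) * ψ (MonoidAlgebra.single m 1) := by
  simp [AlgHom.convMul_apply]

include hone in
theorem sum_comp (a : A) : (coact act a).coeff.sum (fun _ v => v) = a := by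
  have h := hone _ (spMap (AlgHom.id k A))
  rw [one_point, act_eq] at h
  have h' := AlgHom.congr_fun (spMap_inj h) a
  rw [AlgHom.comp_apply, AlgHom.id_apply] at h'
  conv_rhs => rw [← h', ← (coact act a).sum_coeff_single]
  simp only [map_finsuppSum, evPair_single]
  refine Finsupp.sum_congr fun m _ => ?_
  show _ = (coact act a).coeff m * _
  rw [show (1 : WithConv (MonoidAlgebra k N →ₐ[k] A)).ofConv (MonoidAlgebra.single m 1) = 1 from
    one_single m, _root_.mul_one]

include hmul in
theorem coact_comp (a : A) (m : N) : coact act ((coact act a).coeff m) = MonoidAlgebra.single m ((coact act a).coeff m) := by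
  classical
  let g : MonoidAlgebra k N →ₐ[k] MonoidAlgebra A (N × N) :=
    MonoidAlgebra.lift k _ N ((MonoidAlgebra.of A (N × N)).comp (MonoidHom.inl N N))
  let h : MonoidAlgebra k N →ₐ[k] MonoidAlgebra A (N × N) :=
    MonoidAlgebra.lift k _ N ((MonoidAlgebra.of A (N × N)).comp (MonoidHom.inr N N))
  let x : A →ₐ[k] MonoidAlgebra A (N × N) := MonoidAlgebra.singleOneAlgHom
  have e := hmul _ (spMap g) (spMap h) (spMap x)
  rw [act_eq, act_eq, spMap_mul, act_eq] at e
  have e' := AlgHom.congr_fun (spMap_inj e) a
  simp only [AlgHom.comp_apply] at e'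
  rw [← (coact act a).sum_coeff_single] at e'
  simp only [map_finsuppSum, evPair_single, mul_single] at e'
  have hg : ∀ n : N, g (MonoidAlgebra.single n 1) = MonoidAlgebra.single (n, 1) 1 := fun n => by simp [g]
  have hh : ∀ n : N, h (MonoidAlgebra.single n 1) = MonoidAlgebra.single (1, n) 1 := fun n => by simp [h]
  have hx : ∀ v : A, x v = MonoidAlgebra.single (1 : N × N) v := fun v => rfl
  have hin : ∀ b : A, (evPair h x) (coact act b) =
      (coact act b).coeff.sum fun n v => MonoidAlgebra.single ((1, n) : N × N) v := fun b => by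
    conv_lhs => rw [← (coact act b).sum_coeff_single]
    simp only [map_finsuppSum, evPair_single, hh, hx]
    refine Finsupp.sum_congr fun n _ => ?_
    simp
  simp only [hg, hh, hx, AlgHom.comp_apply, hin, Finsupp.sum_mul] at e'
  simp only [MonoidAlgebra.single_mul_single, _root_.one_mul, _root_.mul_one, Prod.mk_mul_mk] at e'
  ext n
  have := congrArg (fun z => z.coeff (m, n)) e'
  simp only [Finsupp.sum, MonoidAlgebra.coeff_sum, Finset.sum_apply', MonoidAlgebra.coeff_single, Finsupp.single_apply,
    Prod.mk.injEq] at this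
  rw [Finset.sum_eq_single m (fun b _ hb => Finset.sum_eq_zero fun c _ => by simp [hb]) (fun hm => by
      rw [Finsupp.notMem_support_iff] at hm; simp [hm]),
    Finset.sum_eq_single n (fun c _ hc => by simp [hc]) (fun hn => by
      rw [Finsupp.notMem_support_iff] at hn; simp [hn])] at this
  rw [MonoidAlgebra.coeff_single, Finsupp.single_apply]
  by_cases hmn : m = n
  · subst hmn
    rw [Finset.sum_eq_single m (fun b _ hb => by simp [hb]) (fun hm => by
      rw [Finsupp.notMem_support_iff] at hm; simp [hm])] at this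
    simpa using this
  · rw [Finset.sum_eq_zero fun b _ => if_neg fun hb => hmn (hb.1.symm.trans hb.2)] at this
    simpa [hmn] using this

include hone hmul hfree in
/-- In every degree the homogeneous elements generate the unit ideal. -/
theorem span_homogeneous_eq_top (m : N) :
    Ideal.span {a : A | coact act a = MonoidAlgebra.single m a} = ⊤ := by
  classical
  by_contra hne
  obtain ⟨P, hP, hle⟩ := Ideal.exists_le_maximal _ hne
  let x : A →ₐ[k] A ⧸ P := Ideal.Quotient.mkₐ k P
  haveI := hP.isPrime
  let Phi : Set N := {n | ∃ a, coact act a = MonoidAlgebra.single n a ∧ x a ≠ 0}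
  have h1 : (1 : N) ∈ Phi := ⟨1, by rw [map_one, MonoidAlgebra.one_def], by rw [map_one]; exact one_ne_zero⟩
  have hmulΦ : ∀ n n', n ∈ Phi → n' ∈ Phi → n * n' ∈ Phi := by
    rintro n n' ⟨a, ha, ha'⟩ ⟨b, hb, hb'⟩
    exact ⟨a * b, by rw [map_mul, ha, hb, MonoidAlgebra.single_mul_single],
      by rw [map_mul]; exact mul_ne_zero ha' hb'⟩
  have hcomp : ∀ a n, x ((coact act a).coeff n) ≠ 0 → n ∈ Phi := fun a n h => ⟨_, coact_comp act hmul a n, h⟩
  let U : Subgroup N :=
    { carrier := {n | n ∈ Phi ∧ n⁻¹ ∈ Phi}
      one_mem' := ⟨h1, by rwa [_root_.inv_one]⟩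
      mul_mem' := fun {a b} ha hb => ⟨hmulΦ _ _ ha.1 hb.1, by rw [mul_inv]; exact hmulΦ _ _ ha.2 hb.2⟩
      inv_mem' := fun {a} ha => ⟨ha.2, by rw [inv_inv]; exact ha.1⟩ }
  have hU : ∀ n n', n ∈ Phi → n' ∈ Phi → n * n' ∈ U → n ∈ U := fun n n' hn hn' h =>
    ⟨hn, by
      have := hmulΦ _ _ hn' h.2
      rwa [show n' * (n * n')⁻¹ = n⁻¹ by rw [mul_inv, mul_comm n⁻¹, mul_inv_cancel_left]] at this⟩
  let F : MonoidAlgebra A N →+ A ⧸ P :=
    (Finsupp.liftAddHom fun n => if n ∈ U then (x : A →ₐ[k] A ⧸ P).toAddMonoidHom else 0).comp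
      (MonoidAlgebra.coeffAddEquiv).toAddMonoidHom
  have hFs : ∀ n v, F (MonoidAlgebra.single n v) = if n ∈ U then x v else 0 := fun n v => by
    simp only [F, AddMonoidHom.comp_apply]
    show Finsupp.liftAddHom _ (MonoidAlgebra.single n v).coeff = _
    rw [MonoidAlgebra.coeff_single, Finsupp.liftAddHom_apply_single]
    split_ifs <;> rfl
  have hFm : ∀ a b, F (coact act (a * b)) = F (coact act a) * F (coact act b) := fun a b => by
    rw [map_mul]
    conv_lhs => rw [← (coact act a).sum_coeff_single, ← (coact act b).sum_coeff_single]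
    conv_rhs => rw [← (coact act a).sum_coeff_single, ← (coact act b).sum_coeff_single]
    simp only [Finsupp.sum, map_sum, Finset.sum_mul, Finset.mul_sum, MonoidAlgebra.single_mul_single, hFs]
    refine Finset.sum_congr rfl fun q _ => Finset.sum_congr rfl fun p _ => ?_
    by_cases hz : x ((coact act a).coeff p) = 0
    · simp [map_mul, hz]
    by_cases hz' : x ((coact act b).coeff q) = 0
    · simp [map_mul, hz']
    have hp := hcomp a p hz
    have hq := hcomp b q hz'
    by_cases hu : p ∈ U <;> by_cases hu' : q ∈ U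
    · simp [hu, hu', U.mul_mem hu hu', map_mul]
    · rw [if_neg fun h => hu' (hU q p hq hp (by rwa [mul_comm] at h))]
      simp [hu']
    · rw [if_neg fun h => hu (hU p q hp hq h)]
      simp [hu]
    · rw [if_neg fun h => hu (hU p q hp hq h)]
      simp [hu]
  let x' : A →ₐ[k] A ⧸ P :=
    { toFun := fun a => F (coact act a)
      map_zero' := by simp
      map_add' := fun a b => by simp [map_add]
      map_one' := by
        show F (coact act 1) = 1
        rw [map_one, MonoidAlgebra.one_def, hFs, if_pos U.one_mem, map_one]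
      map_mul' := hFm
      commutes' := fun r => by
        show F (coact act (algebraMap k A r)) = _
        rw [(coact act).commutes, MonoidAlgebra.coe_algebraMap]
        simp only [Function.comp_apply]
        rw [hFs, if_pos U.one_mem, AlgHom.commutes] }
  let C := MonoidAlgebra (A ⧸ P) (N ⧸ U)
  let φ : MonoidAlgebra k N →ₐ[k] C :=
    MonoidAlgebra.lift k C N ((MonoidAlgebra.of (A ⧸ P) (N ⧸ U)).comp (QuotientGroup.mk' U))
  let y : A →ₐ[k] C := (MonoidAlgebra.singleOneAlgHom : A ⧸ P →ₐ[k] C).comp x'
  have hfix : lift (spMap φ) (spMap y) ≫ act = spMap y := by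
    rw [act_eq]
    congr 1
    refine AlgHom.ext fun a => ?_
    rw [AlgHom.comp_apply]
    conv_rhs => rw [← sum_comp act hone a]
    conv_lhs => rw [← (coact act a).sum_coeff_single]
    simp only [map_finsuppSum, evPair_single]
    refine Finsupp.sum_congr fun n _ => ?_
    show (MonoidAlgebra.single 1 (x' ((coact act a).coeff n)) : C) * φ (MonoidAlgebra.single n 1) =
      MonoidAlgebra.single 1 (x' ((coact act a).coeff n))
    have hx' : x' ((coact act a).coeff n) = if n ∈ U then x ((coact act a).coeff n) else 0 := by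
      show F (coact act ((coact act a).coeff n)) = _
      rw [coact_comp act hmul, hFs]
    by_cases hn : n ∈ U
    · rw [show φ (MonoidAlgebra.single n 1) = MonoidAlgebra.single ((n : N ⧸ U)) 1 by simp [φ]; rfl,
        MonoidAlgebra.single_mul_single, _root_.mul_one, _root_.one_mul, (QuotientGroup.eq_one_iff n).mpr hn]
    · rw [hx', if_neg hn]
      simp
  have h1' := hfree _ _ _ hfix
  rw [one_point] at h1'
  have hm := AlgHom.congr_fun (spMap_inj h1') (MonoidAlgebra.single m 1)
  rw [show φ (MonoidAlgebra.single m 1) = MonoidAlgebra.single ((m : N ⧸ U)) 1 by simp [φ]; rfl,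
    show (1 : WithConv (MonoidAlgebra k N →ₐ[k] C)).ofConv (MonoidAlgebra.single m 1) = 1 from
      one_single m, MonoidAlgebra.one_def] at hm
  have hmU : m ∈ U := (QuotientGroup.eq_one_iff m).mp
    (Finsupp.single_left_injective (one_ne_zero (α := A ⧸ P)) (congrArg MonoidAlgebra.coeff hm))
  obtain ⟨a, ha, ha'⟩ := hmU.1
  exact ha' (Ideal.Quotient.eq_zero_iff_mem.mpr (hle (Ideal.subset_span ha)))

include hone hmul hfree in
/-- The graph is given by a surjective map of algebras. -/
theorem graph_surjective : Function.Surjective (Algebra.TensorProduct.lift (coact act) (uX (k := k) (N := N))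
    fun _ _ => Commute.all _ _) := by
  intro w
  induction w using MonoidAlgebra.induction_linear with
  | zero => exact ⟨0, map_zero _⟩
  | add p q hp hq => obtain ⟨p', rfl⟩ := hp; obtain ⟨q', rfl⟩ := hq; exact ⟨p' + q', map_add _ _ _⟩
  | single m v =>
    suffices ∀ z ∈ Ideal.span {a : A | coact act a = MonoidAlgebra.single m a},
        ∃ t, Algebra.TensorProduct.lift (coact act) (uX (k := k) (N := N)) (fun _ _ => Commute.all _ _) t =
          MonoidAlgebra.single m z from this v (by rw [span_homogeneous_eq_top act hone hmul hfree m]; trivial)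
    intro z hz
    induction hz using Submodule.span_induction with
    | mem a ha => exact ⟨a ⊗ₜ 1, by rw [Algebra.TensorProduct.lift_tmul, map_one, _root_.mul_one]; exact ha⟩
    | zero => exact ⟨0, by rw [map_zero, MonoidAlgebra.single_zero]⟩
    | add p q _ _ hp hq =>
      obtain ⟨p', hp⟩ := hp
      obtain ⟨q', hq⟩ := hq
      exact ⟨p' + q', by rw [map_add, hp, hq, MonoidAlgebra.single_add]⟩
    | smul c p _ hp =>
      obtain ⟨p', hp⟩ := hp
      refine ⟨((1 : A) ⊗ₜ c) * p', ?_⟩
      rw [map_mul, hp, Algebra.TensorProduct.lift_tmul, map_one, _root_.one_mul, uX_apply,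
        MonoidAlgebra.single_mul_single, _root_.one_mul]
      rfl

end Groth.Agent.FreeAct18
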